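import Cfsg.Agent.Lib.FT.BG12.Upstream
import Cfsg.Agent.Lib.FT.Beta
import Cfsg.Agent.Lib.FT.Discharge1444
import Cfsg.Agent.Lib.FT.BG13.General

/-!
BG Lemma 10.9 (a3), Theorem 10.12 and the rank part of Proposition 10.14.
-/

set_option autoImplicit false
set_option linter.style.haveILetI false

universe u

namespace CfsgLib.FT.BG10X

open Cfsg CfsgLib.OddOrder CfsgLib.Techniques Subgroup
open scoped Pointwise

variable {G : Type u} [Group G] [Finite G]

/-- A Sylow subgroup of a nilpotent subgroup is normal in it. -/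
theorem le_normalizer_of_nilpotent {p : ℕ} [Fact p.Prime] {H T : Subgroup G}
    (hH : Group.IsNilpotent H) (hT : SylIn p T H) : H ≤ normalizer (T : Set G) := by
  obtain ⟨P, rfl⟩ := exists_sylow_of_sylIn hT
  haveI : (P : Subgroup H).Characteristic := P.characteristic_of_normal
    (((Group.isNilpotent_of_finite_tfae (G := H)).out 0 3 rfl rfl).mp hH p ‹_› P)
  exact le_normalizer.trans (CfsgLib.Base.normalizer_le_normalizer_map_subtype H _)

/-- An element normalising a nilpotent subgroup normalises its Sylow subgroups. -/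
theorem normalizer_le_of_nilpotent {p : ℕ} [Fact p.Prime] {H T : Subgroup G}
    (hH : Group.IsNilpotent H) (hT : SylIn p T H) :
    normalizer (H : Set G) ≤ normalizer (T : Set G) := by
  intro g hg
  have h1 : SylIn p (cj g T) H := by
    have := hT.cj' g
    rwa [mem_normalizer_iff_cj.1 hg] at this
  obtain ⟨k, hk, he⟩ := hT.exists_conj_eq h1
  have h2 : cj k (cj g T) = cj g T :=
    mem_normalizer_iff_cj.1 (le_normalizer_of_nilpotent hH h1 hk)
  exact mem_normalizer_iff_cj.2 (h2.symm.trans he)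

omit [Finite G] in
theorem cj_piHallOf {π : Set ℕ} {H L : Subgroup G} (h : IsPiHallOf π H L) {g : G} (hg : g ∈ L) :
    IsPiHallOf π (cj g H) L := by
  have hL : cj g L = L := cj_eq_self_of_mem hg
  refine ⟨hL ▸ cj_mono h.1, fun p hp hd => h.2.1 p hp (by rwa [card_cj] at hd), fun p hp hπ hd => ?_⟩
  rw [← hL, relIndex_cj] at hd
  exact h.2.2 p hp hπ hd

omit [Finite G] in
/-- A Sylow subgroup of a Hall subgroup is a Sylow subgroup. -/
theorem sylIn_of_hall {π : Set ℕ} {H L T : Subgroup G} {p : ℕ} [hp : Fact p.Prime]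
    (h : IsPiHallOf π H L) (hπ : p ∈ π) (hT : SylIn p T H) : SylIn p T L := by
  refine ⟨hT.le.trans h.1, hT.isPGroup, fun hd => ?_⟩
  rw [← relIndex_mul_relIndex T H L hT.le h.1] at hd
  rcases hp.out.dvd_mul.1 hd with h' | h'
  · exact hT.not_dvd h'
  · exact h.2.2 p hp.out hπ h'

/-- BG 10.9 (a3). -/
theorem betaPrimeSylow (h1403 : StmtS1403.{u}) (h1453 : StmtS1453.{u}) :
    BG12.BetaPrimeSylow.{u} := by
  intro G _ _ hG M hM p q hp' hq' _ hp hq X hX
  haveI := maximal_solvable hG hM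
  have h1444 : StmtS1444.{u} := stmtS1444
  set π : Set ℕ := {r | r.Prime ∧ r ∉ beta M} with hπ
  set B := piCoreOf (beta M) M with hB
  have hBhall : IsPiHallOf (beta M) B M :=
    CfsgLib.Coprime.piHallOf_map_subtype (piHall_piCore_beta h1403 h1444 h1453 hG hM)
  have hBd : B ≤ ⁅M, M⁆ := (map_mono (CfsgLib.Base.piCore_mono
    (beta_subset_sigma h1403 hG hM))).trans (sigmaCore_le_derived h1403 hG hM)
  have hdM : ⁅M, M⁆ ≤ M := commutator_le_self M
  obtain ⟨H₀, hH₀, hH₀n⟩ := exists_nilpotent_hall h1403 hG hM hdM fun r _ hr =>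
    hasNormalPComplement_derived' h1403 h1444 h1453 hG hM hr
  obtain ⟨R, hR⟩ := exists_sylIn (p := q) H₀
  obtain ⟨k, hk, hkX⟩ := (sylIn_of_hall hH₀ ⟨hq'.out, hq⟩ hR).exists_conj_eq hX
  obtain ⟨H, hHdef⟩ : ∃ H, H = cj k⁻¹ H₀ := ⟨_, rfl⟩
  have hH : IsPiHallOf π H ⁅M, M⁆ := hHdef ▸ cj_piHallOf hH₀ (inv_mem hk)
  have hHn : Group.IsNilpotent H := hHdef ▸ CfsgLib.Base.isNilpotent_map _ hH₀n
  have hXH : SylIn q X H := by
    have := hR.cj' k⁻¹
    rwa [← hkX, cj_inv_cj, ← hHdef] at this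
  have hHM : H ≤ M := hH.1.trans hdM
  -- a Hall `β'`-subgroup of `M` containing `H`
  obtain ⟨K₀, hK₀, hHK₀⟩ := (CfsgLib.Coprime.hallD_of_solvable (G := M) π).exists_le
    (U := H.subgroupOf M) (fun r hr hd => hH.2.1 r hr (by rwa [CfsgLib.Base.card_subgroupOf hHM] at hd))
  obtain ⟨K, hKdef⟩ : ∃ K, K = K₀.map M.subtype := ⟨_, rfl⟩
  have hK : IsPiHallOf π K M := hKdef ▸ CfsgLib.Coprime.piHallOf_map_subtype hK₀
  have hHK : H ≤ K := by
    rw [hKdef, ← map_subgroupOf_eq_of_le hHM]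
    exact map_mono hHK₀
  have hKd : K ⊓ ⁅M, M⁆ = H := by
    refine le_antisymm (relIndex_eq_one.1 (by_contra fun hne => ?_)) (le_inf hHK hH.1)
    obtain ⟨r, hr, hd⟩ := Nat.exists_prime_and_dvd hne
    have h1 : r ∈ π := hK.2.1 r hr ((hd.trans (relIndex_dvd_card H (K ⊓ ⁅M, M⁆))).trans
      (card_dvd_of_le inf_le_left))
    exact hH.2.2 r hr h1 (hd.trans (Dvd.intro _
      (relIndex_mul_relIndex H (K ⊓ ⁅M, M⁆) ⁅M, M⁆ (le_inf hHK hH.1) inf_le_right)))
  have hKN : K ≤ normalizer (B : Set G) := hK.1.trans (le_normalizer_piCoreOf _ M)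
  have hMKB : M ≤ K ⊔ B := by
    refine relIndex_eq_one.1 (by_contra fun hne => ?_)
    obtain ⟨r, hr, hd⟩ := Nat.exists_prime_and_dvd hne
    have hle : K ⊔ B ≤ M := sup_le hK.1 hBhall.1
    by_cases hrβ : r ∈ beta M
    · exact hBhall.2.2 r hr hrβ (hd.trans (relIndex_dvd_of_le_left M le_sup_right))
    · exact hK.2.2 r hr ⟨hr, hrβ⟩ (hd.trans (relIndex_dvd_of_le_left M le_sup_left))
  have hHK' : H ≤ ⁅K, K⁆ := by
    set f := QuotientGroup.mk' (piCore (beta M) M) with hf
    have htop : (K.subgroupOf M).map f = ⊤ := by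
      rw [eq_top_iff]
      rintro y -
      obtain ⟨m, rfl⟩ := QuotientGroup.mk'_surjective _ y
      have hm := hMKB m.2
      rw [← SetLike.mem_coe, Subgroup.coe_mul_of_left_le_normalizer_right _ _ hKN] at hm
      obtain ⟨a, ha, b, hb, hab⟩ := hm
      obtain ⟨b', hb', rfl⟩ := hb
      refine ⟨⟨a, hK.1 ha⟩, ha, ?_⟩
      have hmb : m = ⟨a, hK.1 ha⟩ * b' := Subtype.ext hab.symm
      have h1 : f b' = 1 := (QuotientGroup.eq_one_iff b').2 hb'
      rw [hmb, map_mul, h1, mul_one]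
    have h1 : commutator M ≤ ⁅K.subgroupOf M, K.subgroupOf M⁆ ⊔ piCore (beta M) M := by
      rw [← QuotientGroup.ker_mk' (piCore (beta M) M), ← Subgroup.map_le_map_iff, map_commutator _ _ f, htop,
        commutator_def, map_commutator]
      exact commutator_mono le_top le_top
    have h2 : ⁅M, M⁆ ≤ ⁅K, K⁆ ⊔ B := by
      rw [← map_subtype_commutator]
      refine (map_mono h1).trans ?_
      rw [Subgroup.map_sup, map_commutator, map_subgroupOf_eq_of_le hK.1]
      exact le_rfl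
    intro x hx
    have hKK : ⁅K, K⁆ ≤ normalizer (B : Set G) := (commutator_le_self K).trans hKN
    have hx' := h2 (hH.1 hx)
    rw [← SetLike.mem_coe, Subgroup.coe_mul_of_left_le_normalizer_right _ _ hKK] at hx'
    obtain ⟨a, ha, b, hb, rfl⟩ := hx'
    have haH : a ∈ H := hKd ▸ ⟨commutator_le_self K ha, commutator_mono hK.1 hK.1 ha⟩
    have hb1 : b ∈ H ⊓ B := ⟨by have := mul_mem (inv_mem haH) hx; rwa [inv_mul_cancel_left] at this, hb⟩
    rw [BG13.inf_eq_bot_of_primes (π := π) hH.2.1 fun r hr hd h' => h'.2 (hBhall.2.1 r hr hd),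
      mem_bot] at hb1
    show a * b ∈ _
    rwa [hb1, mul_one]
  have hKH : K ≤ normalizer (H : Set G) := by
    rw [← hKd]
    intro g hg
    rw [mem_normalizer_iff_cj, cj_inf, cj_eq_self_of_mem hg, cj_commutator,
      cj_eq_self_of_mem (hK.1 hg)]
  obtain ⟨P, hP⟩ := exists_sylIn (p := p) H
  refine ⟨P, sylIn_of_hall hH ⟨hp'.out, hp⟩ hP, hP.le.trans (hHK'.trans ?_)⟩
  have hKX : K ≤ M ⊓ normalizer (X : Set G) :=
    le_inf hK.1 (hKH.trans (normalizer_le_of_nilpotent hHn hXH))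
  exact commutator_mono hKX hKX

/-- BG 10.12. -/
theorem sigmaDisjoint (h1403 : StmtS1403.{u}) : BG12.SigmaDisjoint.{u} := by
  intro G _ _ hG M H hM hH hne
  have key : ∀ (p : ℕ) [Fact p.Prime], p ∈ sigma M → p ∈ sigma H →
      p ∉ alpha M ∧ ¬ Group.IsNilpotent (sigmaCore M) := by
    intro p _ hpM hpH
    obtain ⟨S, hS⟩ := exists_sylIn (p := p) M
    have hSG := sigma_sylIn_top hpM hS
    obtain ⟨S', hS'⟩ := exists_sylIn (p := p) H
    obtain ⟨g, -, hg⟩ := hSG.exists_conj_eq (sigma_sylIn_top hpH hS')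
    have hne' : cj g H ≠ M := fun e => hne g⁻¹ (by rw [← e, cj_inv_cj])
    have hSH : S ≤ cj g H := hg ▸ cj_mono hS'.le
    refine ⟨fun hα => hne' (eq_of_inUniqueMaximal (inUniqueMaximal_of_pRank h1403 hG Fact.out
      (ne_top_of_le_maximal hM hS.le) fun h => hα.2 ((pRankLE_iff_sylIn hS).2 h)) hM hS.le
      (isCoatom_cj hH g) hSH), fun hn => hne' ?_⟩
    have hSσ : S ≤ sigmaCore M := BG13.le_of_normal_hall (le_normalizer_sigmaCore M)
      (sigmaCore_hall h1403 hG hM) hS.le fun r hr hd => by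
        rwa [BG13.eq_of_dvd_card_pGroup hS.isPGroup hr hd]
    have h1 : M ≤ normalizer (S : Set G) := (le_normalizer_sigmaCore M).trans
      (normalizer_le_of_nilpotent hn (hS.mono hSσ (sigmaCore_le M)))
    have h2 : normalizer (S : Set G) ≤ cj g H := by
      rw [← hg, ← cj_normalizer]
      exact cj_mono (sigma_normalizer_le hpH hS')
    exact (hM.le_iff.1 (h1.trans h2)).resolve_left (isCoatom_cj hH g).1
  have hprimes : ∀ p : ℕ, p ∈ alpha M → p ∉ sigma H := fun p hp hpH =>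
    haveI := Fact.mk hp.1
    (key p (alpha_subset_sigma h1403 hG hM hp) hpH).1 hp
  have hσ : ∀ (L : Subgroup G) (r : ℕ), r.Prime → r ∣ Nat.card (sigmaCore L) → r ∈ sigma L :=
    fun L r hr hd => piCoreOf_primes (sigma L) L r hr hd
  refine ⟨BG13.inf_eq_bot_of_primes (π := alpha M)
    (fun r hr hd => piCoreOf_primes (alpha M) M r hr hd)
    fun r hr hd hα => hprimes r hα (hσ H r hr hd), hprimes, fun hn => ?_⟩
  have hprimes' : ∀ p ∈ sigma M, p ∉ sigma H := fun p hp hpH =>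
    haveI := Fact.mk hp.1
    (key p hp hpH).2 hn
  exact ⟨BG13.inf_eq_bot_of_primes (π := sigma M) (hσ M)
    fun r hr hd hα => hprimes' r hα (hσ H r hr hd), hprimes'⟩

/-- The rank part of BG 10.14. -/
theorem betaCentRank (h1403 : StmtS1403.{u}) : BG12.BetaCentRank.{u} := by
  intro G _ _ hG M hM p hp' hp X hXM hX hr
  have hXp := BG13.isPGroup_of_card_prime hX
  obtain ⟨P, hP, hXP⟩ := exists_sylIn_ge (p := p) hXp hXM
  obtain ⟨P', hP'⟩ := (sigma_sylIn_top (beta_subset_sigma h1403 hG hM hp) hP).to_sylow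
  have hrP : ¬ PRankLE p 2 P := fun h => hp.1.2 ((pRankLE_iff_sylIn hP).2 h)
  have hd : p ∣ Nat.card M := dvd_card_of_mem_alpha hp.1
  obtain ⟨z, hzP, hz, hzc⟩ := exists_central_orderOf hP.isPGroup (sylIn_ne_bot hP hd)
  by_cases hzX : z ∈ X
  · have hle : P ≤ M ⊓ centralizer (X : Set G) := le_inf hP.le fun y hy => by
      refine mem_centralizer_iff.2 fun x hx => ?_
      obtain ⟨i, rfl⟩ := mem_zpowers_iff.1 ((eq_of_le_of_card_ge (zpowers_le.2 hzX)
        (by rw [Nat.card_zpowers, hz, hX])).ge hx)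
      exact ((Commute.zpow_right (show Commute y z from hzc y hy) i).eq).symm
    exact hrP (CfsgLib.Base.pRankLE_subgroup_iff.2 fun A hA hAe =>
      CfsgLib.Base.pRankLE_subgroup_iff.1 hr A (hA.trans hle) hAe)
  · have hXe : IsElementaryAbelian p X := by
      haveI : IsCyclic X := isCyclic_of_prime_card hX
      refine ⟨inferInstance, fun a ha => ?_⟩
      have := pow_card_eq_one' (x := (⟨a, ha⟩ : X))
      rw [hX] at this
      exact congrArg Subtype.val this
    have hze := CfsgLib.Base.isElementaryAbelian_zpowers (p := p) (hz ▸ pow_orderOf_eq_one z)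
    have hcen : zpowers z ≤ centralizer (X : Set G) :=
      zpowers_le.2 (mem_centralizer_iff.2 fun x hx => hzc x (hXP hx))
    have hE := CfsgLib.Base.isElementaryAbelian_sup hze hXe hcen
    have hEP : zpowers z ⊔ X ≤ P := sup_le (zpowers_le.2 hzP) hXP
    have hlt : X < zpowers z ⊔ X := lt_of_le_of_ne le_sup_right fun e =>
      hzX (e ▸ mem_sup_left (mem_zpowers z))
    obtain ⟨n, hn⟩ := IsPGroup.iff_card.1 (hP.isPGroup.to_le hEP)
    have h2 : 2 ≤ n := by
      have := card_lt_of_lt hlt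
      rw [hX, hn] at this
      exact (Nat.pow_lt_pow_iff_right hp'.out.one_lt).1 (by rwa [pow_one])
    by_cases h3 : 3 ≤ n
    · have := CfsgLib.Base.pRankLE_subgroup_iff.1 hr _ (le_inf (hEP.trans hP.le)
        fun e he => mem_centralizer_iff.2 fun x hx => by
          haveI := hE.1
          exact congrArg Subtype.val
            (mul_comm' (⟨x, mem_sup_right hx⟩ : ↥(zpowers z ⊔ X)) ⟨e, he⟩)) hE
      rw [hn] at this
      exact absurd ((Nat.pow_le_pow_iff_right hp'.out.one_lt).1 this) (by omega)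
    · obtain ⟨B, hBP, hBe, hlt'⟩ := hp.2.2.2 P' (zpowers z ⊔ X) (hP' ▸ hEP) hE
        (by rw [hn]; congr 1; omega)
      have hBC : B ≤ M ⊓ centralizer (X : Set G) := le_inf ((hP' ▸ hBP : B ≤ P).trans hP.le)
        fun b hb => mem_centralizer_iff.2 fun x hx => by
          haveI := hBe.1
          exact congrArg Subtype.val (mul_comm' (⟨x, hlt'.le (mem_sup_right hx)⟩ : B) ⟨b, hb⟩)
      have h5 := CfsgLib.Base.pRankLE_subgroup_iff.1 hr _ hBC hBe
      have h6 := card_lt_of_lt hlt'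
      rw [hn] at h6
      exact absurd (h6.trans_le h5) (not_lt.2 (Nat.pow_le_pow_right hp'.out.pos h2))

end CfsgLib.FT.BG10X
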