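import Cfsg.Agent.Lib.FT.BG10Extra.Signalizer

/-!
BG Lemma 10.13: maximal elementary abelian subgroups of order `p²` in a nonabelian Sylow subgroup.
-/

set_option autoImplicit false
set_option linter.style.haveILetI false

universe u

namespace CfsgLib.FT.BG10X

open Cfsg CfsgLib.OddOrder CfsgLib.Techniques Subgroup
open scoped Pointwise

variable {G : Type u} [Group G] [Finite G]

/-- A `p`-element normalising a subgroup of order `p` centralises it. -/
theorem mem_centralizer_of_normalizes {p : ℕ} [hp : Fact p.Prime] {X : Subgroup G}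
    (hX : Nat.card X = p) {s : G} (hs : ∃ k : ℕ, s ^ p ^ k = 1)
    (hn : s ∈ normalizer (X : Set G)) : s ∈ centralizer (X : Set G) := by
  haveI : IsCyclic X := isCyclic_of_prime_card hX
  obtain ⟨k, hk⟩ := hs
  have h1 : (X.normalizerMonoidHom ⟨s, hn⟩) ^ p ^ k = 1 := by
    rw [← map_pow]
    have : (⟨s, hn⟩ : normalizer (X : Set G)) ^ p ^ k = 1 := Subtype.ext hk
    rw [this, map_one]
  have h2 : (X.normalizerMonoidHom ⟨s, hn⟩) ^ (p - 1) = 1 := by
    rw [← Nat.totient_prime hp.out, ← hX, ← IsCyclic.card_mulAut]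
    exact pow_card_eq_one'
  have hcop : (p ^ k).Coprime (p - 1) := Nat.Coprime.pow_left k
    ((Nat.coprime_self_sub_right hp.out.one_le).2 (Nat.coprime_one_right p))
  have h3 : X.normalizerMonoidHom ⟨s, hn⟩ = 1 := orderOf_eq_one_iff.1
    (Nat.eq_one_of_dvd_coprimes hcop (orderOf_dvd_of_pow_eq_one h1) (orderOf_dvd_of_pow_eq_one h2))
  refine mem_centralizer_iff.2 fun x hx => ?_
  have h4 : s * x * s⁻¹ = x := congrArg Subtype.val (DFunLike.congr_fun h3 (⟨x, hx⟩ : X))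
  exact (mul_inv_eq_iff_eq_mul.1 h4).symm

theorem card_le_of_le_cyclic {p : ℕ} (hp : 0 < p) {D Y : Subgroup G} (hY : IsCyclic Y) (hD : D ≤ Y)
    (hexp : ∀ x ∈ D, x ^ p = 1) : Nat.card D ≤ p := by
  haveI : IsCyclic D := Subgroup.isCyclic_of_le hD
  obtain ⟨d, hd⟩ := IsCyclic.exists_generator (α := D)
  rw [← orderOf_eq_card_of_forall_mem_zpowers hd, ← Subgroup.orderOf_coe]
  exact Nat.le_of_dvd hp (orderOf_dvd_of_pow_eq_one (hexp _ d.2))

variable {p : ℕ} [hp : Fact p.Prime]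

/-- The rank two case: the structure of `C_S(A)`. -/
theorem exists_factor_small {A S P₁ P₂ : Subgroup G} (hA : IsElementaryAbelian p A)
    (hA2 : Nat.card A = p ^ 2) (hmax : ∀ B : Subgroup G, IsElementaryAbelian p B → A ≤ B → B = A)
    (hAS : A ≤ S) (h12 : P₁ ⊔ P₂ = S) (hc : ∀ a ∈ P₁, ∀ b ∈ P₂, a * b = b * a)
    (he : Monoid.exponent P₁ = p) (h2 : IsCyclic P₂)
    (hΩ : closure {x : G | x ∈ P₂ ∧ x ^ p = 1} = P₁ ⊓ centralizer (P₁ : Set G))
    {z : G} (hzS : z ∈ S) (hzp : z ^ p = 1) (hzc : ∀ t ∈ S, t * z = z * t) :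
    ¬ A ≤ centralizer (S : Set G) ∧ ∃ Y : Subgroup G, IsCyclic Y ∧ z ∈ Y ∧
      Y ≤ S ⊓ centralizer (A : Set G) ∧ S ⊓ centralizer (A : Set G) ≤ A ⊔ Y := by
  have hΩ2 : closure {x : G | x ∈ P₂ ∧ x ^ p = 1} ≤ P₂ := (closure_le _).2 fun x hx => hx.1
  have hN : P₁ ≤ normalizer (P₂ : Set G) := by
    refine le_trans (fun a ha => ?_) (centralizer_le_normalizer _)
    exact mem_centralizer_iff.2 fun b hb => (hc a ha b hb).symm
  have hsplit : ∀ x ∈ S, ∃ a ∈ P₁, ∃ b ∈ P₂, a * b = x := fun x hx => by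
    rw [← h12, ← SetLike.mem_coe, Subgroup.coe_mul_of_left_le_normalizer_right _ _ hN] at hx
    obtain ⟨a, ha, b, hb, hab⟩ := hx
    exact ⟨a, ha, b, hb, hab⟩
  have hpow : ∀ a ∈ P₁, a ^ p = 1 := fun a ha => by
    have := Monoid.pow_exponent_eq_one (⟨a, ha⟩ : P₁)
    rw [he] at this
    exact congrArg Subtype.val this
  have hord : ∀ x ∈ S, x ^ p = 1 → x ∈ P₁ := by
    intro x hx hxp
    obtain ⟨a, ha, b, hb, rfl⟩ := hsplit x hx
    rw [(show Commute a b from hc a ha b hb).mul_pow, hpow a ha, one_mul] at hxp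
    exact mul_mem ha (hΩ.le (subset_closure ⟨hb, hxp⟩)).1
  have hAP : A ≤ P₁ := fun a ha => hord a (hAS ha) (hA.2 a ha)
  have hzY : z ∈ P₂ := hΩ2 (hΩ.ge ⟨hord z hzS hzp, mem_centralizer_iff.2 fun t ht =>
    hzc t (h12 ▸ mem_sup_left ht)⟩)
  refine ⟨fun hcen => ?_, P₂, h2, hzY, le_inf (h12 ▸ le_sup_right) fun b hb =>
    mem_centralizer_iff.2 fun a ha => hc a (hAP ha) b hb, fun x hx => ?_⟩
  · have hle : A ≤ P₂ := fun a ha => hΩ2 (hΩ.ge ⟨hAP ha, mem_centralizer_iff.2 fun t ht =>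
      mem_centralizer_iff.1 (hcen ha) t (h12 ▸ mem_sup_left ht)⟩)
    have h1 := card_le_of_le_cyclic hp.out.pos h2 hle hA.2
    rw [hA2] at h1
    exact absurd h1 (not_le.2 (lt_self_pow₀ hp.out.one_lt (by norm_num)))
  · obtain ⟨a, ha, b, hb, rfl⟩ := hsplit x hx.1
    have hbA : b ∈ (centralizer (A : Set G) : Subgroup G) :=
      mem_centralizer_iff.2 fun c hcA => hc c (hAP hcA) b hb
    refine mul_mem_sup (mem_of_maximal_elementary hA hmax ?_ (hpow a ha)) hb
    have hx2 : a * b ∈ centralizer (A : Set G) := hx.2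
    have := mul_mem hx2 (inv_mem hbA)
    rwa [mul_inv_cancel_right] at this

/-- The rank three case: the structure of `C_S(A)`. -/
theorem exists_factor_large (h1453 : StmtS1453.{u}) (hp2 : p ≠ 2) {A S : Subgroup G}
    (hS : IsPGroup p S) (hr : ¬ PRankLE p 2 S) (hA : IsElementaryAbelian p A)
    (hA2 : Nat.card A = p ^ 2) (hmax : ∀ B : Subgroup G, IsElementaryAbelian p B → A ≤ B → B = A)
    (hAS : A ≤ S) {z : G} (hzS : z ∈ S) (hzc : ∀ t ∈ S, t * z = z * t) :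
    ¬ A ≤ centralizer (S : Set G) ∧ ∃ Y : Subgroup G, IsCyclic Y ∧ z ∈ Y ∧
      Y ≤ S ⊓ centralizer (A : Set G) ∧ S ⊓ centralizer (A : Set G) ≤ A ⊔ Y := by
  obtain ⟨hET, -, -, hTc, hTi⟩ := h1453 p hp2 hS hr (A.subgroupOf S)
    (CfsgLib.Base.isElementaryAbelian_subgroupOf hA S)
    (by rw [CfsgLib.Base.card_subgroupOf hAS, hA2]) fun B hB hle => by
      have h := hmax (B.map S.subtype) (CfsgLib.Base.isElementaryAbelian_map _ hB)
        ((map_subgroupOf_eq_of_le hAS).ge.trans (map_mono hle))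
      rw [← h]
      exact (comap_map_eq_self_of_injective S.subtype_injective B).symm
  obtain ⟨D, hD⟩ : ∃ D : Subgroup S,
      D = closure {x : S | x ∈ Subgroup.upperCentralSeries S 2 ∧ x ^ p = 1} := ⟨_, rfl⟩
  rw [← hD] at hET hTc hTi
  obtain ⟨T, hT⟩ : ∃ T : Subgroup S, T = centralizer (D : Set S) := ⟨_, rfl⟩
  rw [← hT] at hET hTc hTi
  haveI := hTc
  refine ⟨fun hcen => hET fun a ha => ?_, ?_⟩
  · rw [hT]
    exact mem_centralizer_iff.2 fun x _ =>
      Subtype.ext (mem_centralizer_iff.1 (hcen (mem_subgroupOf.1 ha)) x x.2)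
  obtain ⟨e, heA, heT⟩ := SetLike.not_le_iff_exists.1 hET
  obtain ⟨Y₀, hY₀⟩ : ∃ Y₀ : Subgroup G, Y₀ = T.map S.subtype ⊓ centralizer (A : Set G) := ⟨_, rfl⟩
  have hY₀S : Y₀ ≤ S := hY₀ ▸ inf_le_left.trans (map_subtype_le T)
  refine ⟨Y₀, ?_, ?_, le_inf hY₀S (hY₀ ▸ inf_le_right), fun x hx => ?_⟩
  · refine isCyclic_of_pRankLE_one hp2 (hS.to_le hY₀S)
      (CfsgLib.Base.pRankLE_subgroup_iff.2 fun B hB hBe => ?_)
    have hBA : B ≤ A := fun b hb =>
      mem_of_maximal_elementary hA hmax (hY₀ ▸ hB hb).2 (hBe.2 b hb)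
    have hne : B ≠ A := fun h => heT (by
      obtain ⟨⟨t, ht, hte⟩, -⟩ := hY₀ ▸ hB (h ▸ mem_subgroupOf.1 heA : (e : G) ∈ B)
      exact (Subtype.ext hte : t = e) ▸ ht)
    obtain ⟨k, hk⟩ := IsPGroup.iff_card.1 ((IsPGroup.of_card hA2).to_le hBA)
    have hlt := card_lt_of_lt (lt_of_le_of_ne hBA hne)
    rw [hA2, hk] at hlt
    rw [hk]
    exact Nat.pow_le_pow_right hp.out.pos
      (Nat.lt_succ_iff.1 ((Nat.pow_lt_pow_iff_right hp.out.one_lt).1 hlt))
  · rw [hY₀]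
    exact ⟨⟨⟨z, hzS⟩, hT ▸ mem_centralizer_iff.2 fun w _ => Subtype.ext (hzc w w.2), rfl⟩,
      mem_centralizer_iff.2 fun a ha => hzc a (hAS ha)⟩
  · have hi : zpowers e ⊔ T = ⊤ := by
      have hlt : T < zpowers e ⊔ T := lt_of_le_of_ne le_sup_right fun h =>
        heT (h ▸ mem_sup_left (mem_zpowers e))
      rcases (Nat.dvd_prime hp.out).1 (hTi ▸ index_dvd_of_le hlt.le) with h | h
      · exact index_eq_one.1 h
      · refine absurd (eq_of_le_of_card_ge hlt.le ?_) hlt.ne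
        have e1 := card_mul_index T
        have e2 := card_mul_index (zpowers e ⊔ T)
        rw [hTi] at e1; rw [h] at e2
        exact le_of_eq (Nat.eq_of_mul_eq_mul_right hp.out.pos (e2.trans e1.symm))
    have hx' : (⟨x, hx.1⟩ : S) ∈ ((zpowers e ⊔ T : Subgroup S) : Set S) := by rw [hi]; trivial
    rw [mul_normal, Set.mem_mul] at hx'
    obtain ⟨a, ha, t, ht, hat⟩ := hx'
    have haA : (a : G) ∈ A := mem_subgroupOf.1 ((zpowers_le.2 heA) ha)
    have hat' : (a : G) * t = x := congrArg Subtype.val hat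
    rw [← hat']
    refine mul_mem_sup haA (hY₀ ▸ ⟨mem_map_of_mem _ ht, ?_⟩)
    have := mul_mem (inv_mem (le_centralizer_self_of_comm hA.1 haA)) (hat'.symm ▸ hx.2)
    rwa [inv_mul_cancel_left] at this

/-- A `p`-element fixing one line and no other permutes the other lines transitively. -/
theorem lines_orbit {A A₀ A₁ : Subgroup G} {z s : G} (hz : orderOf z = p)
    (hline : ∀ L : Subgroup G, L ≤ A → Nat.card L = p → L ≠ zpowers z → L ⊔ zpowers z = A)
    (hcomm : ∀ a ∈ A, a * z = z * a) (hs : ∃ k : ℕ, s ^ p ^ k = 1)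
    (hfix : ∀ X : Subgroup G, X ≤ A → Nat.card X = p → X ≠ zpowers z → cj s X ≠ X)
    (h0 : A₀ ≤ A) (h1 : Nat.card A₀ = p)
    (horbit : ∀ i : ℕ, cj (s ^ i) A₀ ≤ A ∧ Nat.card ↥(cj (s ^ i) A₀) = p ∧
      cj (s ^ i) A₀ ≠ zpowers z)
    (g0 : A₁ ≤ A) (g1 : Nat.card A₁ = p) (g2 : A₁ ≠ zpowers z) :
    ∃ i : ℕ, cj (s ^ i) A₀ = A₁ := by
  classical
  have h2 : A₀ ≠ zpowers z := by simpa using (horbit 0).2.2
  have hinj : Set.InjOn (fun i => cj (s ^ i) A₀) ↑(Finset.range p) := by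
    have key : ∀ i j : ℕ, i ≤ j → j < p → cj (s ^ i) A₀ = cj (s ^ j) A₀ → i = j := by
      intro i j hij hj he
      by_contra hne
      have hd : cj (s ^ (j - i)) (cj (s ^ i) A₀) = cj (s ^ i) A₀ := by
        rw [← cj_mul, ← pow_add, Nat.sub_add_cancel hij, he]
      obtain ⟨k, hk⟩ := hs
      have hcop : (orderOf s).Coprime (j - i) :=
        Nat.Coprime.coprime_dvd_left (orderOf_dvd_of_pow_eq_one hk) (Nat.Coprime.pow_left k
          ((hp.out.coprime_iff_not_dvd).2 (Nat.not_dvd_of_pos_of_lt (by omega) (by omega))))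
      obtain ⟨m, hm⟩ := exists_pow_eq_self_of_coprime hcop.symm
      refine hfix _ (horbit i).1 (horbit i).2.1 (horbit i).2.2 (mem_normalizer_iff_cj.1 ?_)
      have h' := pow_mem (mem_normalizer_iff_cj.2 hd) m
      rwa [hm] at h'
    intro i hi j hj he
    simp only [Finset.coe_range, Set.mem_Iio] at hi hj
    rcases le_total i j with h | h
    · exact key i j h hj he
    · exact (key j i h hi he.symm).symm
  haveI : IsCyclic A₀ := isCyclic_of_prime_card h1
  obtain ⟨a, ha⟩ := IsCyclic.exists_generator (α := A₀)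
  have haz : (a : G) ∉ zpowers z := fun h => h2 <| eq_of_le_of_card_ge (fun x hx => by
      obtain ⟨i, hi⟩ := mem_zpowers_iff.1 (ha ⟨x, hx⟩)
      have : (a : G) ^ i = x := congrArg Subtype.val hi
      rw [← this]
      exact zpow_mem h i) (by rw [h1, Nat.card_zpowers, hz])
  have hsub : ∀ L : Subgroup G, L ≤ A → Nat.card L = p → L ≠ zpowers z →
      L ∈ (Finset.range p).image fun j => zpowers ((a : G) * z ^ j) := by
    intro L hL hL1 hL2
    have hLz : L ≤ normalizer ((zpowers z : Subgroup G) : Set G) := fun l hl =>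
      centralizer_le_normalizer _ (mem_centralizer_iff.2 fun w hw => by
        obtain ⟨i, rfl⟩ := mem_zpowers_iff.1 hw
        exact (Commute.zpow_left (show Commute z l from (hcomm l (hL hl)).symm) i).eq)
    have ham : (a : G) ∈ ((L ⊔ zpowers z : Subgroup G) : Set G) :=
      (hline L hL hL1 hL2).ge (h0 a.2)
    rw [Subgroup.coe_mul_of_left_le_normalizer_right _ _ hLz] at ham
    obtain ⟨l, hl, w, hw, hlw⟩ := ham
    obtain ⟨j, hjp, hj⟩ : ∃ j, j < p ∧ z ^ j = w⁻¹ := by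
      have hfin : IsOfFinOrder z := isOfFinOrder_of_finite z
      obtain ⟨j, hj⟩ := (hfin.mem_powers_iff_mem_zpowers).2 (inv_mem hw)
      exact ⟨j % p, Nat.mod_lt _ hp.out.pos, by rw [← hz, pow_mod_orderOf]; exact hj⟩
    refine Finset.mem_image.2 ⟨j, Finset.mem_range.2 hjp, ?_⟩
    have he : (a : G) * z ^ j = l := by rw [hj, ← hlw]; exact mul_inv_cancel_right l w
    rw [he]
    have hl1 : orderOf (⟨l, hl⟩ : L) ≠ 1 := fun h => haz (by
      have : l = 1 := congrArg Subtype.val (orderOf_eq_one_iff.1 h)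
      rw [← hlw, this]
      show (1 : G) * w ∈ _
      rw [one_mul]; exact hw)
    refine eq_of_le_of_card_ge (zpowers_le.2 hl) ?_
    rw [Nat.card_zpowers, hL1, ← Subgroup.orderOf_mk _ hl]
    exact le_of_eq (((Nat.dvd_prime hp.out).1 (hL1 ▸ orderOf_dvd_natCard _)).resolve_left hl1).symm
  have hS : ((Finset.range p).image fun i => cj (s ^ i) A₀) =
      (Finset.range p).image fun j => zpowers ((a : G) * z ^ j) := by
    refine Finset.eq_of_subset_of_card_le (fun L hL => ?_) (Finset.card_image_le.trans ?_)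
    · obtain ⟨i, -, rfl⟩ := Finset.mem_image.1 hL
      exact hsub _ (horbit i).1 (horbit i).2.1 (horbit i).2.2
    · rw [Finset.card_image_of_injOn hinj]
  obtain ⟨i, -, hi⟩ := Finset.mem_image.1 (hS ▸ hsub A₁ g0 g1 g2)
  exact ⟨i, hi⟩

/-- Two distinct lines generate `A`. -/
theorem line_sup {A : Subgroup G} (hA2 : Nat.card A = p ^ 2) {z : G} (hzA : z ∈ A)
    (hz : orderOf z = p) : ∀ A₀ : Subgroup G, A₀ ≤ A → Nat.card A₀ = p → A₀ ≠ zpowers z →
      A₀ ⊔ zpowers z = A := by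
  intro A₀ h0 h1 h2
  have hZ₀ : Nat.card (zpowers z) = p := by rw [Nat.card_zpowers, hz]
  have hle : A₀ ⊔ zpowers z ≤ A := sup_le h0 (zpowers_le.2 hzA)
  refine eq_of_le_of_card_ge hle ?_
  obtain ⟨k, hk⟩ := IsPGroup.iff_card.1 ((IsPGroup.of_card hA2).to_le hle)
  have hlt : A₀ < A₀ ⊔ zpowers z := lt_of_le_of_ne le_sup_left fun e =>
    h2 (eq_of_le_of_card_ge (e ▸ le_sup_right : zpowers z ≤ A₀) (by rw [h1, hZ₀])).symm
  have := card_lt_of_lt hlt
  rw [h1, hk] at this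
  rw [hA2, hk]
  exact Nat.pow_le_pow_right hp.out.pos
    ((Nat.pow_lt_pow_iff_right hp.out.one_lt).1 (by rwa [pow_one]))

/-- The structure of `C_S(A)` for a maximal elementary abelian `A` of order `p²`. -/
theorem exists_factor (h1403 : StmtS1403.{u}) (h1448 : StmtS1448.{u}) (h1453 : StmtS1453.{u})
    (hG : IsMinSimpleOddOrder G) {A : Subgroup G} (hA : IsElementaryAbelian p A)
    (hA2 : Nat.card A = p ^ 2) (hmax : ∀ B : Subgroup G, IsElementaryAbelian p B → A ≤ B → B = A)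
    {S : Sylow p G} (hAS : A ≤ (S : Subgroup G)) (hnc : ¬ IsMulCommutative (S : Subgroup G))
    {z : G} (hzS : z ∈ (S : Subgroup G)) (hzp : z ^ p = 1)
    (hzc : ∀ t ∈ (S : Subgroup G), t * z = z * t) :
    ¬ A ≤ centralizer ((S : Subgroup G) : Set G) ∧
      ∃ Y : Subgroup G, IsCyclic Y ∧ z ∈ Y ∧ Y ≤ (S : Subgroup G) ⊓ centralizer (A : Set G) ∧
        (S : Subgroup G) ⊓ centralizer (A : Set G) ≤ A ⊔ Y := by
  have hp2 : p ≠ 2 := minSimple_ne_two hG (dvd_card_of_sq hA2)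
  by_cases hr : PRankLE p 2 (S : Subgroup G)
  · obtain ⟨P₁, P₂, h12, hc, -, -, he, h2, hΩ⟩ :=
      (sylow_rank_two_structure h1403 stmtS1444 hG h1448 S hr).resolve_left hnc
    exact exists_factor_small hA hA2 hmax hAS h12 hc he h2 hΩ hzS hzp hzc
  · exact exists_factor_large h1453 hp2 S.isPGroup' hr hA hA2 hmax hAS hzS hzc

/-- `C_S(A)` is abelian. -/
theorem centralizer_inf_sylow_comm (h1403 : StmtS1403.{u}) (h1448 : StmtS1448.{u})
    (h1453 : StmtS1453.{u}) (hG : IsMinSimpleOddOrder G) {A : Subgroup G}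
    (hA : IsElementaryAbelian p A) (hA2 : Nat.card A = p ^ 2)
    (hmax : ∀ B : Subgroup G, IsElementaryAbelian p B → A ≤ B → B = A) (S : Sylow p G)
    (hAS : A ≤ (S : Subgroup G)) :
    IsMulCommutative ↥((S : Subgroup G) ⊓ centralizer (A : Set G)) := by
  refine CfsgLib.Base.isMulCommutative_subgroup_iff.2 fun a ha b hb => ?_
  by_cases hnc : IsMulCommutative (S : Subgroup G)
  · exact CfsgLib.Base.isMulCommutative_subgroup_iff.1 hnc a ha.1 b hb.1
  obtain ⟨z, hzS, hz, hzc⟩ := exists_central_orderOf S.isPGroup'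
    (fun e => hnc (e ▸ inferInstance))
  obtain ⟨-, Y, hY, -, hYC, hCY⟩ := exists_factor h1403 h1448 h1453 hG hA hA2 hmax hAS hnc hzS
    (hz ▸ pow_orderOf_eq_one z) hzc
  haveI := hY
  have hYY : Y ≤ centralizer (Y : Set G) := le_centralizer_self_of_comm inferInstance
  have hAY : A ≤ centralizer (Y : Set G) := le_centralizer_iff.1 (hYC.trans inf_le_right)
  have hAA := le_centralizer_self_of_comm hA.1
  have h1 : A ⊔ Y ≤ centralizer ((A ⊔ Y : Subgroup G) : Set G) :=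
    sup_le (le_centralizer_iff.1 (sup_le hAA (hYC.trans inf_le_right)))
      (le_centralizer_iff.1 (sup_le hAY hYY))
  exact (mem_centralizer_iff.1 (h1 (hCY hb)) a (hCY ha))

/-- The lines other than a central one are permuted transitively by `N_S(A)`. -/
theorem exists_conj_line {A S : Subgroup G} (hS : IsPGroup p S) (hA : IsElementaryAbelian p A)
    (hA2 : Nat.card A = p ^ 2) (hmax : ∀ B : Subgroup G, IsElementaryAbelian p B → A ≤ B → B = A)
    (hAS : A ≤ S) (hncen : ¬ A ≤ centralizer (S : Set G)) {z : G} (hzS : z ∈ S) (hz : orderOf z = p)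
    (hzc : ∀ t ∈ S, t * z = z * t) {A₀ A₁ : Subgroup G} (h0 : A₀ ≤ A) (h1 : Nat.card A₀ = p)
    (h2 : A₀ ≠ zpowers z) (g0 : A₁ ≤ A) (g1 : Nat.card A₁ = p) (g2 : A₁ ≠ zpowers z) :
    ∃ s ∈ S ⊓ normalizer (A : Set G), cj s A₀ = A₁ := by
  have hzp : z ^ p = 1 := hz ▸ pow_orderOf_eq_one z
  obtain ⟨C, hCdef⟩ : ∃ C, C = S ⊓ centralizer (A : Set G) := ⟨_, rfl⟩
  have hzA : z ∈ A := mem_of_maximal_elementary hA hmax
    (mem_centralizer_iff.2 fun a ha => hzc a (hAS ha)) hzp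
  have hline := line_sup hA2 hzA hz
  have hCS : C < S := lt_of_le_of_ne (hCdef ▸ inf_le_left) fun e => hncen
    (le_centralizer_iff.1 ((e.ge.trans hCdef.le).trans inf_le_right))
  obtain ⟨s, hs, hsC⟩ := SetLike.exists_of_lt (lt_inf_normalizer' hS hCS)
  have hsA : s ∈ normalizer (A : Set G) := by
    refine mem_normalizer_iff_cj.2 (eq_of_le_of_card_ge (cj_le_iff.2 fun a ha => ?_) (card_cj s A).ge)
    have haC : a ∈ C := hCdef ▸ ⟨hAS ha, le_centralizer_self_of_comm hA.1 ha⟩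
    have h3 := (mem_normalizer_iff.1 hs.2 a).1 haC
    rw [hCdef] at h3
    refine mem_of_maximal_elementary hA hmax h3.2 ?_
    rw [← MulAut.conj_apply, ← map_pow, hA.2 a ha, map_one]
  have hspow : ∀ i : ℕ, ∃ k : ℕ, (s ^ i) ^ p ^ k = 1 := fun i => by
    obtain ⟨k, hk⟩ := hS ⟨s ^ i, pow_mem hs.1 i⟩
    exact ⟨k, congrArg Subtype.val hk⟩
  have hfix : ∀ X : Subgroup G, X ≤ A → Nat.card X = p → X ≠ zpowers z → cj s X ≠ X := by
    intro X hX hX1 hX2 he
    refine hsC (hCdef ▸ ⟨hs.1, ?_⟩)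
    have hsX := mem_centralizer_of_normalizes hX1 (by simpa using hspow 1)
      (mem_normalizer_iff_cj.2 he)
    have hsz : s ∈ centralizer ((zpowers z : Subgroup G) : Set G) := mem_centralizer_iff.2 fun w hw => by
      obtain ⟨i, rfl⟩ := mem_zpowers_iff.1 hw
      exact (Commute.zpow_left (show Commute z s from (hzc s hs.1).symm) i).eq
    rw [← hline X hX hX1 hX2]
    refine le_centralizer_iff.1 (sup_le ?_ ?_) (mem_zpowers s)
    · exact le_centralizer_iff.1 (zpowers_le.2 hsX)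
    · exact le_centralizer_iff.1 (zpowers_le.2 hsz)
  have horbit : ∀ i : ℕ, cj (s ^ i) A₀ ≤ A ∧ Nat.card ↥(cj (s ^ i) A₀) = p ∧
      cj (s ^ i) A₀ ≠ zpowers z := by
    intro i
    refine ⟨(cj_mono h0).trans (mem_normalizer_iff_cj.1 (pow_mem hsA i)).le, by rw [card_cj, h1],
      fun e => h2 ?_⟩
    rw [← cj_inv_cj (s ^ i) A₀, e]
    refine mem_normalizer_iff_cj.1 (centralizer_le_normalizer _ (inv_mem (pow_mem ?_ i)))
    refine mem_centralizer_iff.2 fun w hw => ?_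
    obtain ⟨j, rfl⟩ := mem_zpowers_iff.1 hw
    exact (Commute.zpow_left (show Commute z s from (hzc s hs.1).symm) j).eq
  obtain ⟨i, hi⟩ := lines_orbit hz hline (fun a ha => hzc a (hAS ha)) (by simpa using hspow 1)
    hfix h0 h1 horbit g0 g1 g2
  exact ⟨s ^ i, ⟨pow_mem hs.1 i, pow_mem hsA i⟩, hi⟩


/-- BG 10.13. -/
theorem maxElemStructure (h1403 : StmtS1403.{u}) (h1448 : StmtS1448.{u}) (h1453 : StmtS1453.{u}) :
    BG12.MaxElemStructure.{u} := by
  intro G _ _ hG p hp' A hA hA2 hmax S hAS hnc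
  have hp2 : p ≠ 2 := minSimple_ne_two hG (dvd_card_of_sq hA2)
  have hSne : (S : Subgroup G) ≠ ⊥ := fun e => hnc (e ▸ inferInstance)
  obtain ⟨z, hzS, hz, hzc⟩ := exists_central_orderOf S.isPGroup' hSne
  have hzp : z ^ p = 1 := hz ▸ pow_orderOf_eq_one z
  obtain ⟨hncen, Y, hYc, hzY, hYC, hCY⟩ := exists_factor h1403 h1448 h1453 hG hA hA2 hmax hAS hnc hzS
    hzp hzc
  have hzC : z ∈ centralizer (A : Set G) := mem_centralizer_iff.2 fun a ha => hzc a (hAS ha)
  have hzA : z ∈ A := mem_of_maximal_elementary hA hmax hzC hzp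
  have hZ₀ : Nat.card (zpowers z) = p := by rw [Nat.card_zpowers, hz]
  have hline := line_sup hA2 hzA hz
  refine ⟨zpowers z, Y, zpowers_le.2 hzA, hZ₀, fun w hw s hs => ?_, hYc, zpowers_le.2 hzY, hYC,
    fun A₀ h0 h1 h2 => ⟨?_, le_antisymm (sup_le (le_inf (h0.trans hAS)
      (h0.trans (le_centralizer_self_of_comm hA.1))) hYC) (hCY.trans (sup_le ?_ le_sup_right))⟩, ?_⟩
  · obtain ⟨i, rfl⟩ := mem_zpowers_iff.1 hw
    exact (Commute.zpow_right (show Commute s z from hzc s hs) i).eq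
  · by_contra hne
    obtain ⟨k, hk⟩ := IsPGroup.iff_card.1
      ((BG13.isPGroup_of_card_prime h1).to_le (inf_le_left : A₀ ⊓ Y ≤ A₀))
    have hd : p ∣ Nat.card ↥(A₀ ⊓ Y) := BG13.dvd_of_pGroup_ne_bot
      ((BG13.isPGroup_of_card_prime h1).to_le inf_le_left) hne
    have heq : A₀ ⊓ Y = A₀ := eq_of_le_of_card_ge inf_le_left
      (h1 ▸ Nat.le_of_dvd Nat.card_pos hd)
    exact h2 (CfsgLib.OddOrder.eq_of_card_eq_of_isCyclic (heq ▸ inf_le_right : A₀ ≤ Y)
      (zpowers_le.2 hzY) (h1.trans hZ₀.symm))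
  · rw [← hline A₀ h0 h1 h2]
    exact sup_le le_sup_left ((zpowers_le.2 hzY).trans le_sup_right)
  -- transitivity
  exact fun A₀ A₁ h0 h1 h2 g0 g1 g2 =>
    exists_conj_line S.isPGroup' hA hA2 hmax hAS hncen hzS hz hzc h0 h1 h2 g0 g1 g2

end CfsgLib.FT.BG10X
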