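import Cfsg.Agent.Lib.FT.BG10Extra.BetaSylow
import Cfsg.Agent.Lib.OddOrder.TransitivityMinSimple
import Cfsg.Agent.Lib.OddOrder.NarrowSolvable
import Cfsg.Agent.Lib.OddOrder.UniqueBasics
import Cfsg.Agent.Lib.Base.Nilpotent
import Cfsg.Agent.S1396

/-!
BG Propositions 10.10 and 10.11 (b).
-/

set_option autoImplicit false
set_option linter.style.haveILetI false

universe u

namespace CfsgLib.FT.BG10X

open Cfsg CfsgLib.OddOrder CfsgLib.Techniques Subgroup
open scoped Pointwise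

variable {G : Type u} [Group G] [Finite G]

omit [Finite G] in
theorem le_centralizer_self_of_comm {A : Subgroup G} (h : IsMulCommutative A) :
    A ≤ centralizer (A : Set G) := fun a ha => mem_centralizer_iff.2 fun b hb => by
  haveI := h
  exact congrArg Subtype.val (mul_comm' (⟨b, hb⟩ : A) ⟨a, ha⟩)

omit [Finite G] in
/-- Elements of order `p` centralising a maximal elementary abelian `A` lie in `A`. -/
theorem mem_of_maximal_elementary {p : ℕ} {A : Subgroup G} (hA : IsElementaryAbelian p A)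
    (hmax : ∀ B : Subgroup G, IsElementaryAbelian p B → A ≤ B → B = A) {x : G}
    (hx : x ∈ centralizer (A : Set G)) (hxp : x ^ p = 1) : x ∈ A := by
  have h := hmax _ (CfsgLib.Base.isElementaryAbelian_sup (CfsgLib.Base.isElementaryAbelian_zpowers hxp)
    hA (zpowers_le.2 hx)) le_sup_right
  exact h ▸ mem_sup_left (mem_zpowers x)

omit [Finite G] in
theorem dvd_card_of_sq {p : ℕ} {A : Subgroup G} (hA2 : Nat.card A = p ^ 2) : p ∣ Nat.card G :=
  (hA2 ▸ dvd_pow_self p two_ne_zero : p ∣ Nat.card A).trans A.card_subgroup_dvd_card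

/-- A maximal elementary abelian subgroup of order `p²` satisfies the transitivity hypothesis. -/
theorem th_of_maximal_elementary (h1403 : StmtS1403.{u}) (hG : IsMinSimpleOddOrder G) {p : ℕ}
    [Fact p.Prime] {A : Subgroup G} (hA : IsElementaryAbelian p A) (hA2 : Nat.card A = p ^ 2)
    (hmax : ∀ B : Subgroup G, IsElementaryAbelian p B → A ≤ B → B = A) :
    TransitivityHypothesis A :=
  Cfsg.Agent.S1396.result hG p (dvd_card_of_sq hA2) A (IsPGroup.of_card hA2) hA.1
    (Or.inl ⟨fun x hx => ⟨mem_of_maximal_elementary hA hmax hx, hA.2 x⟩,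
      fun H hH => pLengthLE_one_of_ne_top h1403 stmtS1444 hG hH⟩)

theorem not_rankLE_one_inf {p : ℕ} [hp : Fact p.Prime] {A : Subgroup G}
    (hA : IsElementaryAbelian p A) (hA2 : Nat.card A = p ^ 2) :
    ¬ RankLE 1 ↥(A ⊓ centralizer (A : Set G)) := fun h => by
  have h1 := CfsgLib.Base.pRankLE_subgroup_iff.1 (h p hp.out) A
    (le_inf le_rfl (le_centralizer_self_of_comm hA.1)) hA
  rw [hA2] at h1
  exact absurd ((Nat.pow_le_pow_iff_right hp.out.one_lt).1 h1) (by norm_num)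

theorem primesNotDvd_sq {p : ℕ} (hp : p.Prime) : primesNotDvd (p ^ 2) = primesNotDvd p := by
  ext r
  exact and_congr_right fun hr => not_congr ⟨hr.dvd_of_dvd_pow, fun h => h.trans (dvd_pow_self p two_ne_zero)⟩

/-- BG 10.10. -/
theorem maxElemSignalizer (h1403 : StmtS1403.{u}) (h1395 : StmtS1395.{u}) :
    BG12.MaxElemSignalizer.{u} := by
  intro G _ _ hG p q hp' hq' hpq A hA hA2 hmax hqC Q hQ
  have hAp : IsPGroup p A := IsPGroup.of_card hA2
  have hth := th_of_maximal_elementary h1403 hG hA hA2 hmax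
  have hqA : ¬ q ∣ Nat.card A := fun h => hpq ((Nat.prime_dvd_prime_iff_eq hq'.out hp'.out).1
    (hq'.out.dvd_of_dvd_pow (hA2 ▸ h))).symm
  have hZ := not_rankLE_one_inf hA hA2
  have htr : ∀ Q₁ ∈ maxInvSubgroups ⊤ A {q}, ∀ Q₂ ∈ maxInvSubgroups ⊤ A {q},
      ∃ k ∈ piCoreOf (primesNotDvd (Nat.card A)) (centralizer (A : Set G)),
        Q₂ = Q₁.map (MulAut.conj k).toMonoidHom := fun Q₁ h₁ Q₂ h₂ =>
    conjBy_iff.mp (th_transitive_rank_two hG hth hZ hqA hqC h₁ h₂)
  have hsn : ∀ P : Subgroup G, IsPGroup p P → (A.subgroupOf P).IsSubnormal := fun P hP => by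
    haveI := hP.isNilpotent
    exact CfsgLib.Base.isSubnormal_of_isNilpotent _
  have hπ : ∀ P : Subgroup G, IsPGroup p P →
      ∀ r : ℕ, r.Prime → r ∣ Nat.card P → r ∣ Nat.card A := fun P hP r hr hd => by
    rw [BG13.eq_of_dvd_card_pGroup hP hr hd, hA2]
    exact dvd_pow_self p two_ne_zero
  obtain ⟨T, hT, hAT⟩ := exists_sylIn_ge (p := p) hAp (le_top : A ≤ ⊤)
  obtain ⟨Q₁, hQ₁, -⟩ := exists_maxInvSubgroups_ge (H := ⊤) (A := T) (π := {q}) (Y := ⊥)
    (mem_invSubgroups_singleton_iff.2 ⟨bot_le, IsPGroup.of_bot,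
      le_top.trans (le_of_eq (normalizer_eq_top_iff.2 inferInstance).symm)⟩)
  obtain ⟨-, -, hsub, -⟩ := h1395 hG A hth q hq'.out hqA T (isPGroup_ne_top hG hT.isPGroup)
    (hπ T hT.isPGroup) hAT (hsn T hT.isPGroup) htr
  obtain ⟨k, hk, rfl⟩ := htr Q₁ (hsub hQ₁) Q hQ
  have hkC : k ∈ centralizer (A : Set G) := piCoreOf_le _ _ hk
  obtain ⟨P, hPT⟩ : ∃ P : Sylow p G, (P : Subgroup G) = cj k T := by
    obtain ⟨S, hS⟩ := hT.to_sylow
    refine ⟨MulAut.conj k • S, ?_⟩
    rw [← hS]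
    rfl
  have hAP : A ≤ (P : Subgroup G) := by
    rw [hPT, ← mem_normalizer_iff_cj.1 (centralizer_le_normalizer _ hkC)]
    exact cj_mono hAT
  obtain ⟨Q, hQdef⟩ : ∃ Q, Q = cj k Q₁ := ⟨_, rfl⟩
  change Q₁.map _ ∈ _ at hQ
  rw [← cj, ← hQdef] at hQ ⊢
  have hPQ : (P : Subgroup G) ≤ normalizer (Q : Set G) := by
    rw [hPT, hQdef, ← cj_normalizer]
    exact cj_mono (mem_invSubgroups_singleton_iff.1 hQ₁.1).2.2
  have hQP : Q ∈ maxInvSubgroups ⊤ (P : Subgroup G) {q} :=
    ⟨mem_invSubgroups_singleton_iff.2 ⟨le_top, (mem_invSubgroups_singleton_iff.1 hQ.1).2.1, hPQ⟩,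
      fun R hR hle => hQ.2 R ⟨hR.1, hR.2.1, hAP.trans hR.2.2⟩ hle⟩
  obtain ⟨hc, hn⟩ := (h1395 hG A hth q hq'.out hqA P (isPGroup_ne_top hG P.isPGroup')
    (hπ _ P.isPGroup') hAP (hsn _ P.isPGroup') htr).2.2.2 Q hQP
  rw [hA2, primesNotDvd_sq hp'.out] at hn
  have hPd : (P : Subgroup G) ≤ ⁅normalizer (Q : Set G), normalizer (Q : Set G)⁆ :=
    le_trans (le_inf le_rfl (sylow_le_derived_normalizer h1403 stmtS1444 hG P)) hc
  refine ⟨P, hAP, hn, hPd, fun hnar => ?_⟩
  rcases eq_or_ne Q ⊥ with hQ0 | hQ0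
  · rw [hQ0]
    exact fun x _ => mem_centralizer_iff.2 fun y hy => by rw [mem_bot.1 hy]; simp
  have hQp : IsPGroup q Q := (mem_invSubgroups_singleton_iff.1 hQ.1).2.1
  have hq2 : q ≠ 2 := minSimple_ne_two hG (hqC.trans (card_subgroup_dvd_card _))
  obtain ⟨E, hEe, hEr⟩ := exists_small_centralizer_of_narrow hnar
  have hC : PRankLE q 2 ↥(Q ⊓ centralizer ((E.map Q.subtype : Subgroup G) : Set G)) := by
    refine CfsgLib.Base.pRankLE_subgroup_iff.2 fun B hB hBe => ?_
    have h1 := CfsgLib.Base.pRankLE_subgroup_iff.1 hEr (B.subgroupOf Q) (fun y hy =>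
      mem_centralizer_iff.2 fun e he => Subtype.ext
        (mem_centralizer_iff.1 (hB hy).2 _ (mem_map_of_mem Q.subtype he)))
      (CfsgLib.Base.isElementaryAbelian_subgroupOf hBe Q)
    rwa [CfsgLib.Base.card_subgroupOf (hB.trans inf_le_left)] at h1
  set N := normalizer (Q : Set G) with hN
  have hNtop : N ≠ ⊤ := minSimple_normalizer_ne_top hG hQ0 (isPGroup_ne_top hG hQp)
  haveI := minSimple_solvable hG hNtop
  intro x hx
  have hxN : (⟨x, hPQ hx⟩ : N) ∈ commutator N := by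
    obtain ⟨y, hy, hyx⟩ : x ∈ (commutator N).map N.subtype := by
      rw [map_subtype_commutator]; exact hPd hx
    obtain rfl : y = ⟨x, hPQ hx⟩ := Subtype.ext hyx
    exact hy
  have hcop : (orderOf (⟨x, hPQ hx⟩ : N)).Coprime q := by
    rw [Subgroup.orderOf_mk]
    obtain ⟨j, hj⟩ := IsPGroup.iff_orderOf.1 P.isPGroup' ⟨x, hx⟩
    rw [Subgroup.orderOf_mk] at hj
    rw [hj]
    exact ((Nat.coprime_primes hp'.out hq'.out).2 hpq).pow_left j
  exact mem_centralizer_of_narrow hq2 hQp (map_subtype_le E)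
    (CfsgLib.Base.isElementaryAbelian_map _ hEe) hC le_rfl
    (gl2_trivial_of_mem_commutator hq2 (hG.1.of_dvd_nat N.card_subgroup_dvd_card) hxN hcop) hcop

/-- BG 10.11 (b). -/
theorem sigmaCentRank (h1403 : StmtS1403.{u}) (h1395 : StmtS1395.{u}) :
    BG12.SigmaCentRank.{u} := by
  intro G _ _ hG M hM p hp' hp A hAM hA hA2 hcen
  haveI := maximal_solvable hG hM
  have hmax := elementary_maximal h1403 hG hM hp hAM hA hA2
  obtain ⟨q, hq, hqd⟩ := Nat.exists_prime_and_dvd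
    (fun e => sigmaCore_ne_bot h1403 hG hM (eq_bot_of_card_eq _ e))
  haveI := Fact.mk hq
  have hqσ : q ∈ sigma M := piCoreOf_primes (sigma M) M q hq hqd
  have hpq : p ≠ q := fun e => hp (e ▸ hqσ)
  obtain ⟨Q, hQσ⟩ := exists_sylIn (p := q) (sigmaCore M)
  have hQM := sylIn_of_hall (sigmaCore_hall h1403 hG hM) hqσ hQσ
  have hQG := sigma_sylIn_top hqσ hQM
  have hAC : sigmaCore M ≤ centralizer (A : Set G) := le_centralizer_iff.1 hcen
  obtain ⟨P, hAP, hn, hPd, -⟩ := maxElemSignalizer h1403 h1395 hG p q hpq A hA hA2 hmax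
    (hqd.trans (card_dvd_of_le hAC)) Q
    ⟨mem_invSubgroups_singleton_iff.2 ⟨le_top, hQσ.isPGroup,
      (le_centralizer_iff.1 (hQσ.le.trans hAC)).trans (centralizer_le_normalizer _)⟩,
      fun R hR hle => hQG.eq_of_le (mem_invSubgroups_singleton_iff.1 hR).2.1 hle le_top⟩
  have hNQ : normalizer (Q : Set G) ≤ M := sigma_normalizer_le hqσ hQM
  have hPd' : (P : Subgroup G) ≤ ⁅M, M⁆ := hPd.trans (commutator_mono hNQ hNQ)
  have hPM : (P : Subgroup G) ≤ M := hPd'.trans (commutator_le_self M)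
  have hNP : ¬ normalizer ((P : Subgroup G) : Set G) ≤ M := fun h => hp
    ((mem_sigma_iff (sylIn_of_le P hPM)).2
      ⟨(hA2 ▸ dvd_pow_self p two_ne_zero : p ∣ Nat.card A).trans (card_dvd_of_le hAM), h⟩)
  have hCA : ¬ centralizer (A : Set G) ≤ M := fun h => hNP <| by
    rw [hn]
    exact sup_le ((piCoreOf_le _ _).trans ((centralizer_le hAP).trans h)) (inf_le_right.trans hNQ)
  have hAne : A ≠ ⊥ := fun e => by
    rw [e, card_bot] at hA2
    exact (Nat.one_lt_pow two_ne_zero hp'.out.one_lt).ne hA2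
  have hα : piCore (alpha M) M = ⊥ := by
    by_contra hne
    obtain ⟨r, hr, hrd⟩ := Nat.exists_prime_and_dvd (fun e => hne (eq_bot_of_card_eq _ e))
    haveI := Fact.mk hr
    have hrα : r ∈ alpha M := CfsgLib.Base.piCore_primes _ _ r hr hrd
    obtain ⟨T, hT⟩ := exists_sylIn (p := r) M
    have hTσ : T ≤ sigmaCore M := BG13.le_of_normal_hall (le_normalizer_sigmaCore M)
      (sigmaCore_hall h1403 hG hM) hT.le fun s hs hd => by
        rw [BG13.eq_of_dvd_card_pGroup hT.isPGroup hs hd]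
        exact alpha_subset_sigma h1403 hG hM hrα
    refine hCA (le_of_inUniqueMaximal (inUniqueMaximal_of_pRank h1403 hG hr
      (ne_top_of_le_maximal hM hT.le) fun h => hrα.2 ((pRankLE_iff_sylIn hT).2 h)) hM hT.le
      (hTσ.trans hAC) (minSimple_centralizer_ne_top hG hAne))
  have hd : Group.IsNilpotent ↥⁅M, M⁆ := by
    have h := isNilpotent_derived_quotient (K := M) (maximal_odd hG M) (α := alpha M)
      fun r hr hr' => ⟨hr, hr'⟩
    have hinj : Function.Injective (QuotientGroup.mk' (piCore (alpha M) M)) := by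
      rw [← MonoidHom.ker_eq_bot_iff, QuotientGroup.ker_mk', hα]
    haveI := h
    haveI : Group.IsNilpotent (commutator M) := Group.nilpotent_of_mulEquiv
      ((commutator M).equivMapOfInjective _ hinj).symm
    rw [← map_subtype_commutator]
    exact CfsgLib.Base.isNilpotent_map _ inferInstance
  have hPne : (P : Subgroup G) ≠ ⊥ := fun e => hAne (le_bot_iff.1 (e ▸ hAP))
  refine hNP (normalizer_eq_maximal hG hM hPM hPne ?_).le
  refine le_trans ?_ (normalizer_le_of_nilpotent hd (sylIn_of_le P hPd'))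
  intro g hg
  rw [mem_normalizer_iff_cj, cj_commutator, cj_eq_self_of_mem hg]

end CfsgLib.FT.BG10X
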